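import Groth.Agent.TF7.Tower.Steps
import Groth.Agent.DCat.FlatPull
import Groth.Agent.Coherent.PullUnit
import Groth.Agent.H8Lim.ModSections

/-!
# Stalks of composite pullbacks
-/

set_option autoImplicit false
set_option linter.style.haveILetI false
set_option backward.isDefEq.respectTransparency.types false
set_option backward.isDefEq.respectTransparency false

universe u

open CategoryTheory CategoryTheory.Limits AlgebraicGeometry Opposite TopologicalSpace
open Groth.Agent.OmegaLib
open scoped TensorProduct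

noncomputable section

namespace Groth.Agent.TF7

variable {Z Y X : Scheme.{u}}

local notation "Sx" => DerSch.stalkFunctor X
local notation "Sy" => DerSch.stalkFunctor Y

theorem pbs_smul' (p : Y ⟶ X) (M : X.Modules) (y : Y) (c : X.presheaf.stalk (p y)) (m : (Sx (p y)).obj M) :
    pbs p M y (c • m) = (p.stalkMap y).hom c • pbs p M y m := by
  letI := (p.stalkMap y).hom.toAlgebra
  let E := ((ModStalk.pullbackStalkIso p y).app M).symm.toLinearEquiv
  refine Eq.trans ?_ (map_smul E ((p.stalkMap y).hom c) ((1 : Y.presheaf.stalk y) ⊗ₜ m))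
  show E ((1 : Y.presheaf.stalk y) ⊗ₜ (c • m)) = E ((p.stalkMap y).hom c • ((1 : Y.presheaf.stalk y) ⊗ₜ m))
  congr 1
  rw [← TensorProduct.smul_tmul]
  rfl

theorem pbs_induction (p : Y ⟶ X) (M : X.Modules) (y : Y)
    (Q : (Sy y).obj ((Scheme.Modules.pullback p).obj M) → Prop) (h0 : Q 0)
    (hs : ∀ (b : Y.presheaf.stalk y) (m : (Sx (p y)).obj M), Q (b • pbs p M y m))
    (ha : ∀ u v, Q u → Q v → Q (u + v)) (v : (Sy y).obj ((Scheme.Modules.pullback p).obj M)) : Q v := by
  letI := (p.stalkMap y).hom.toAlgebra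
  let E := ((ModStalk.pullbackStalkIso p y).app M).symm.toLinearEquiv
  rw [← E.apply_symm_apply v]
  generalize E.symm v = w
  induction w using TensorProduct.induction_on with
  | zero => rwa [map_zero]
  | tmul b m =>
    change Y.presheaf.stalk y at b
    have e' : E (b ⊗ₜ m) = b • pbs p M y m := by
      refine Eq.trans ?_ (map_smul E b ((1 : Y.presheaf.stalk y) ⊗ₜ m))
      refine congrArg E ?_
      show b ⊗ₜ m = (b * 1) ⊗ₜ m
      rw [mul_one]
    exact e' ▸ hs b m
  | add u v hu hv => rw [map_add]; exact ha _ _ hu hv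

theorem pbs_comp (g : Z ⟶ Y) (p : Y ⟶ X) (M : X.Modules) (z : Z) (m : (Sx (p (g z))).obj M) :
    (DerSch.stalkFunctor Z z).map ((Scheme.Modules.pullbackComp g p).hom.app M)
        (pbs g _ z (pbs p M (g z) m)) = pbs (g ≫ p) M z m := by
  obtain ⟨U, hU, s, rfl⟩ := exists_gm M m
  rw [pbs_gm, pbs_gm]
  refine (map_gm _ (U := g ⁻¹ᵁ p ⁻¹ᵁ U) (x := z) hU _ _).trans ?_
  exact (congrArg (gm _ ((g ≫ p) ⁻¹ᵁ U) z hU) (H8Lim.pullbackComp_hom_app_pullSec g p M (U := U) s)).trans
    (pbs_gm (g ≫ p) M z U hU s).symm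

theorem pullback_map_smulMod' (p : Y ⟶ X) (t : Γ(X, ⊤)) (M : X.Modules) :
    (Scheme.Modules.pullback p).map (EulerLib.smulMod M t) = EulerLib.smulMod _ (p.appTop t) := by
  refine hom_ext_stalks _ _ fun y v => ?_
  induction v using pbs_induction p M y with
  | h0 => simp only [map_zero]
  | hs b m =>
    rw [map_smul, map_smul, pbs_map, map_smulMod, map_smulMod, pbs_smul']
    congr 1
    congr 1
    exact Scheme.Hom.germ_stalkMap_apply p ⊤ y trivial t
  | ha u v hu hv => rw [map_add, map_add, hu, hv]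

/-- Multiplication by `t` factors through a monomorphism containing all `t`-multiples. -/
theorem exists_smul_factor {A B : X.Modules} (ι : A ⟶ B) [Mono ι] (t : Γ(X, ⊤))
    (h : ∀ (x : X) (b : (Sx x).obj B), ∃ a, (Sx x).map ι a = X.presheaf.germ ⊤ x trivial t • b) :
    ∃ s : B ⟶ A, s ≫ ι = EulerLib.smulMod B t :=
  ⟨Abelian.monoLift ι (EulerLib.smulMod B t) (VarietyLib.eq_zero_of_stalks _ fun x v => by
    obtain ⟨a, ha⟩ := h x v
    rw [map_comp_apply, map_smulMod, ← ha, ← map_comp_apply, cokernel.condition, map_zero_apply]),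
    Abelian.monoLift_comp _ _ _⟩

end Groth.Agent.TF7
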