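import Groth.Agent.S2549
import Groth.Agent.FlatMorGeomRed.Constr
import Groth.Agent.FlatMorGeomRed.Descent
import Groth.Agent.AlgGrpLib.GeneratedSubgroup
import Groth.Agent.FlatMorDim.Semicont
import Groth.Agent.AlgSpLib.FibreDimFun
import Groth.Agent.Coherent.CohBC.FibreField
import Groth.Agent.TF7.Tower.Flat
import Groth.Prelude.Def_TFOne

/-!
# Fibres of a proper flat family of curves over a discrete valuation ring
-/

set_option autoImplicit false
set_option linter.style.haveILetI false
set_option backward.isDefEq.respectTransparency.types false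
set_option backward.isDefEq.respectTransparency false

universe u

open CategoryTheory CategoryTheory.Limits AlgebraicGeometry TopologicalSpace IsLocalRing

noncomputable section

namespace Groth.Agent.TF7

/-- A reduced scheme with geometrically integral components is geometrically reduced. -/
theorem geometricallyReduced_of_components {k : Type u} [Field k] {Z : Scheme.{u}} [IsReduced Z]
    (q : Z ⟶ Spec (CommRingCat.of k))
    (hgi : ∀ (C : Set Z) (hC : C ∈ irreducibleComponents (Z : Type u)), GeometricallyIntegral
      (VecSt.subschι Z C (isClosed_of_mem_irreducibleComponents C hC) ≫ q)) :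
    GeometricallyReduced q := by
  haveI : IsReduced (Over.mk q).left := ‹IsReduced Z›
  haveI : ∀ C : {C : Set Z // C ∈ irreducibleComponents (Z : Type u)}, GeometricallyReduced
      (Over.mk (VecSt.subschι Z C.1 (isClosed_of_mem_irreducibleComponents C.1 C.2) ≫ q)).hom := fun C =>
    haveI := hgi C.1 C.2
    inferInstanceAs (GeometricallyReduced (VecSt.subschι Z C.1 (isClosed_of_mem_irreducibleComponents C.1 C.2) ≫ q))
  refine AlgGrpLib.Generated.geometricallyReduced_of_dense_maps (H := Over.mk q)
    (J := {C : Set Z // C ∈ irreducibleComponents (Z : Type u)})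
    (fun C => Over.mk (VecSt.subschι Z C.1 (isClosed_of_mem_irreducibleComponents C.1 C.2) ≫ q))
    (fun C => Over.homMk (VecSt.subschι Z C.1 (isClosed_of_mem_irreducibleComponents C.1 C.2))) (hd := ?_)
  have hall : (⋃ C : {C : Set Z // C ∈ irreducibleComponents (Z : Type u)},
      Set.range (VecSt.subschι Z C.1 (isClosed_of_mem_irreducibleComponents C.1 C.2))) = Set.univ := by
    refine Set.eq_univ_of_forall fun z => ?_
    obtain ⟨C, hC, hzC⟩ : z ∈ ⋃₀ irreducibleComponents (Z : Type u) := by
      rw [sUnion_irreducibleComponents]; trivial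
    refine Set.mem_iUnion.2 ⟨⟨C, hC⟩, ?_⟩
    rw [Scheme.IdealSheafData.range_subschemeι, Scheme.IdealSheafData.coe_support_vanishingIdeal]
    exact hzC
  exact hall ▸ dense_univ

variable {R : Type u} [CommRing R] [IsDomain R] [IsDiscreteValuationRing R] {X : Scheme.{u}}
  (f : X ⟶ Spec (CommRingCat.of R)) [Flat f] [IsProper f] {Xs : Scheme.{u}}
  {q : Xs ⟶ Spec (CommRingCat.of (ResidueField R))} (i : Xs ⟶ X)

/-- All fibres are geometrically reduced when the closed one is. -/
theorem geometricallyReduced_family [GeometricallyReduced q]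
    (hsq : IsPullback i q f (Spec.map (CommRingCat.ofHom (residue R)))) : GeometricallyReduced f := by
  haveI : IsLocallyNoetherian X := LocallyOfFiniteType.isLocallyNoetherian f
  haveI : CompactSpace X := QuasiCompact.compactSpace_of_compactSpace f
  let pt : Spec (CommRingCat.of (ResidueField R)) := closedPoint (ResidueField R)
  have hclosed : Spec.map (CommRingCat.ofHom (residue R)) pt = closedPoint R :=
    IsLocalRing.comap_closedPoint (residue R)
  have hs : GeometricallyReduced (f.fiberToSpecResidueField (closedPoint R)) := by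
    rw [← hclosed]
    exact ⟨(FlatMorGeomRed.geometrically_fiber_iff_baseChange
      (fun π hπ hπ' h => @FlatMorGeomRed.isReduced_descends _ _ π hπ hπ' h) hsq pt).1
      (inferInstance : GeometricallyReduced (q.fiberToSpecResidueField pt)).1⟩
  let S : Set X := {x : X | FBase.IsGeomReducedAt (f.fiberToSpecResidueField (f.base x)) (f.asFiber x)}
  have hS : S = Set.univ := by
    refine Set.eq_univ_of_forall fun x => ?_
    obtain ⟨c, hc, hcc⟩ := (isClosed_closure (s := ({x} : Set X))).exists_closed_singleton ⟨x, subset_closure rfl⟩
    refine (specializes_iff_mem_closure.2 hc).mem_open (Groth.Agent.S2549.result f) ?_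
    have hfc : f c = closedPoint R := (mem_range_iff f i hsq c).1 (mem_range_of_closed f i hsq hcc)
    have hs' : GeometricallyReduced (f.fiberToSpecResidueField (f c)) := hfc ▸ hs
    exact (FlatMorGeomRed.geometricallyReduced_iff_forall _).1 hs' _
  refine ⟨geometrically_iff_forall_fiberToSpecResidueField.2 fun s => ?_⟩
  refine ((FlatMorGeomRed.geometricallyReduced_iff_forall (k := (Spec (CommRingCat.of R)).residueField s) _).2 fun z => ?_).1
  have hs' : f (f.fiberι s z) = s := (f.range_fiberι s).le ⟨z, rfl⟩
  exact FlatMorGeomRed.isGeomReducedAt_of_asFiber f _ _ hs' z rfl (hS.ge trivial)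

omit [Flat f] in
/-- All fibres have dimension at most one when the closed one has. -/
theorem dim_fibre_le (hsq : IsPullback i q f (Spec.map (CommRingCat.ofHom (residue R))))
    (hdim : topologicalKrullDim Xs ≤ 1) {K : Type u} [Field K] (σ : Spec (CommRingCat.of K) ⟶ Spec (CommRingCat.of R))
    {Y : Scheme.{u}} {g : Y ⟶ X} {qY : Y ⟶ Spec (CommRingCat.of K)} (hY : IsPullback g qY f σ) :
    topologicalKrullDim Y ≤ 1 := by
  let pt : Spec (CommRingCat.of (ResidueField R)) := closedPoint (ResidueField R)
  have hclosed : Spec.map (CommRingCat.ofHom (residue R)) pt = closedPoint R :=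
    IsLocalRing.comap_closedPoint (residue R)
  have h0 : topologicalKrullDim ↥(f.fiber (closedPoint R)) ≤ 1 := by
    rw [← hclosed, ← Coherent.CohBC.topologicalKrullDim_fiber_of_isPullback hsq pt,
      AlgSpLib.topologicalKrullDim_fiber_of_subsingleton]
    exact hdim
  let y0 : Spec (CommRingCat.of K) := closedPoint K
  have h1 : topologicalKrullDim ↥(f.fiber (σ y0)) ≤ 1 :=
    (IsLocalRing.specializes_closedPoint (σ y0)).mem_open (FlatMorDim.isOpen_fiber_dim_le f 1) h0
  rw [← Coherent.CohBC.topologicalKrullDim_fiber_of_isPullback hY y0,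
    AlgSpLib.topologicalKrullDim_fiber_of_subsingleton] at h1
  exact h1

end Groth.Agent.TF7
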