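import Groth.Agent.TF7.Completion.Generic
import Groth.Agent.TF7.Completion.GenFibre
import Groth.Agent.Models7.DivChi
import Mathlib.RingTheory.Flat.TorsionFree
import Mathlib.RingTheory.Flat.Stability
import Mathlib.RingTheory.Flat.FaithfullyFlat.Basic

/-!
# The geometric generic fibre of a decomposed tower
-/

set_option autoImplicit false
set_option linter.style.haveILetI false
set_option backward.isDefEq.respectTransparency.types false
set_option backward.isDefEq.respectTransparency false
set_option maxHeartbeats 2000000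

universe u

open CategoryTheory CategoryTheory.Limits AlgebraicGeometry Opposite TopologicalSpace
open Groth.Agent.OmegaLib Groth.Agent.Coherent
open scoped TensorProduct

noncomputable section

namespace Groth.Agent.TF7

theorem eulerChar_of_isPullback {Z B Y : Scheme.{u}} (h : Z ⟶ B) [IsProper h] (M : Z.Modules) [Coh.IsQCoh M]
    {Ω : Type u} [Field Ω] {σ : Spec (CommRingCat.of Ω) ⟶ B} {g : Y ⟶ Z} {qY : Y ⟶ Spec (CommRingCat.of Ω)}
    (hsq : IsPullback g qY h σ) (y : Spec (CommRingCat.of Ω)) :
    PerfAux.eulerChar h M (σ y) = @Curv2.euler Ω _ Y ⟨qY⟩ ((Scheme.Modules.pullback g).obj M) := by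
  letI : Y.Over (Spec (CommRingCat.of Ω)) := ⟨qY⟩
  haveI : IsProper (Y ↘ Spec (CommRingCat.of Ω)) := MorphismProperty.of_isPullback (P := @IsProper) hsq inferInstance
  haveI : IsProper qY := ‹IsProper (Y ↘ Spec (CommRingCat.of Ω))›
  haveI : Coh.IsQCoh ((Scheme.Modules.pullback g).obj M) := EGA43.InjFibre.isQCoh_pullback _ M
  rw [← CohBC.eulerChar_pullback hsq M y]
  exact CohBC.eulerChar_eq_euler Ω ((Scheme.Modules.pullback g).obj M) y

/-- Pullback commutes with twists. -/
def twistPull {Y Z : Scheme.{u}} (g : Y ⟶ Z) (M E : Z.Modules) :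
    (Scheme.Modules.pullback g).obj (CohB1.tensorMod M E) ≅
      CohB1.tensorMod ((Scheme.Modules.pullback g).obj M) ((Scheme.Modules.pullback g).obj E) :=
  DCat.PullTensor.pullTensorIso g M E

theorem pbs_injective_of_flat {Y Z : Scheme.{u}} (g : Y ⟶ Z) [Flat g] (M : Z.Modules) (y : Y) :
    Function.Injective (pbs g M y) := by
  letI := (g.stalkMap y).hom.toAlgebra
  haveI : Module.Flat (Z.presheaf.stalk (g y)) (Y.presheaf.stalk y) := Flat.stalkMap g y
  haveI : IsLocalHom (algebraMap (Z.presheaf.stalk (g y)) (Y.presheaf.stalk y)) :=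
    inferInstanceAs (IsLocalHom (g.stalkMap y).hom)
  haveI : Module.FaithfullyFlat (Z.presheaf.stalk (g y)) (Y.presheaf.stalk y) :=
    Module.FaithfullyFlat.of_flat_of_isLocalHom
  intro a b h
  let E := ((ModStalk.pullbackStalkIso g y).app M).symm.toLinearEquiv
  exact Module.FaithfullyFlat.tensorProduct_mk_injective (A := Z.presheaf.stalk (g y)) (B := Y.presheaf.stalk y)
    ((DerSch.stalkFunctor Z (g y)).obj M) (E.injective h)

theorem pullback_map_injective_at {Y Z : Scheme.{u}} (g : Y ⟶ Z) [Flat g] {M N : Z.Modules} (P : M ⟶ N) (y : Y)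
    (h : Function.Injective ((DerSch.stalkFunctor Z (g y)).map P)) :
    Function.Injective ((DerSch.stalkFunctor Y y).map ((Scheme.Modules.pullback g).map P)) := by
  letI := (g.stalkMap y).hom.toAlgebra
  haveI : Module.Flat (Z.presheaf.stalk (g y)) (Y.presheaf.stalk y) := Flat.stalkMap g y
  have hnat := (ModStalk.pullbackStalkIso g y).hom.naturality P
  intro a b hab
  apply ((ModStalk.pullbackStalkIso g y).app M).toLinearEquiv.injective
  have hx := congrArg (((ModStalk.pullbackStalkIso g y).app N).toLinearEquiv) hab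
  refine Module.Flat.lTensor_preserves_injective_linearMap (M := Y.presheaf.stalk y)
    ((DerSch.stalkFunctor Z (g y)).map P).hom h ?_
  exact ((congr($hnat a)).symm.trans hx).trans (congr($hnat b))

theorem flat_specMap_field {A : Type u} [CommRing A] [IsDomain A] [IsDedekindDomain A] {K : Type u} [Field K]
    (φ : A →+* K) (hφ : Function.Injective φ) : Flat (Spec.map (CommRingCat.ofHom φ)) := by
  letI := φ.toAlgebra
  haveI : FaithfulSMul A K := (faithfulSMul_iff_algebraMap_injective A K).2 hφ
  haveI : Module.IsTorsionFree A K := inferInstance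
  rw [HasRingHomProperty.Spec_iff (P := @Flat)]
  exact RingHom.flat_algebraMap_iff.2 (inferInstance : Module.Flat A K)

variable {R : Type u} [CommRing R] [IsDomain R] [IsDiscreteValuationRing R] {X : Scheme.{u}}
  (f : X ⟶ Spec (CommRingCat.of R)) [Flat f] [IsProper f] {Xs : Scheme.{u}}
  [Xs.Over (Spec (CommRingCat.of (IsLocalRing.ResidueField R)))] [IsReduced Xs] (i : Xs ⟶ X)

/-- A tower decomposed at every step has a quotient on a geometric generic fibre with the same twisted
Euler characteristic. -/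
theorem exists_generic_quotient
    (hsq : IsPullback i (Xs ↘ Spec (CommRingCat.of (IsLocalRing.ResidueField R))) f
      (Spec.map (CommRingCat.ofHom (IsLocalRing.residue R))))
    (E : X.Modules) (r : ℕ) (hE : FlatMod.IsFinLocFreeOfRank r E)
    (In : ℕ → X.Modules) (hIc : Coh.IsCoh (In 0)) (hIf : FlatMod.IsFlatOver f (In 0))
    (hIs : TFOne.IsTF1 Xs ((Scheme.Modules.pullback i).obj (In 0))) (Y Y' : Set Xs)
    (hY' : ∀ η ∈ genericPoints (Xs : Type u), η ∈ Y' ↔ η ∉ Y) (G G' : ℕ → Xs.Modules)
    (π : ∀ n, (Scheme.Modules.pullback i).obj (In n) ⟶ G n)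
    (π' : ∀ n, (Scheme.Modules.pullback i).obj (In n) ⟶ G' n)
    (hG : ∀ n, TFOne.IsQuotOn Xs ((Scheme.Modules.pullback i).obj (In n)) Y (G n) (π n))
    (hG' : ∀ n, TFOne.IsQuotOn Xs ((Scheme.Modules.pullback i).obj (In n)) Y' (G' n) (π' n))
    (hstep : ∀ n, In (n + 1) = kernel ((Scheme.Modules.pullbackPushforwardAdjunction i).unit.app (In n) ≫
      (Scheme.Modules.pushforward i).map (π n)))
    (hdec : ∀ n, IsIso (biprod.lift (π (n + 1)) (π' (n + 1)))) :
    ∃ (Ω : Type u) (_ : Field Ω) (_ : IsAlgClosed Ω) (φ : R →+* Ω) (Yg : Scheme.{u}) (g : Yg ⟶ X)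
      (qY : Yg ⟶ Spec (CommRingCat.of Ω)),
      Function.Injective φ ∧ IsPullback g qY f (Spec.map (CommRingCat.ofHom φ)) ∧
      ∃ (Q : Yg.Modules) (θ : (Scheme.Modules.pullback g).obj (In 0) ⟶ Q), Coh.IsCoh Q ∧ Epi θ ∧
        @Curv2.euler Ω _ Yg ⟨qY⟩ (CohB1.tensorMod Q ((Scheme.Modules.pullback g).obj E)) =
          Curv2.euler (IsLocalRing.ResidueField R) Xs (CohB1.tensorMod (G 0) ((Scheme.Modules.pullback i).obj E)) ∧
        @Curv2.euler Ω _ Yg ⟨qY⟩ (CohB1.tensorMod ((Scheme.Modules.pullback g).obj (In 0))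
            ((Scheme.Modules.pullback g).obj E)) =
          Curv2.euler (IsLocalRing.ResidueField R) Xs
            (CohB1.tensorMod ((Scheme.Modules.pullback i).obj (In 0)) ((Scheme.Modules.pullback i).obj E)) ∧
        (IsIso θ → IsIso (π 0)) ∧
        ∀ (σ : Spec (CommRingCat.of R) ⟶ X), σ ≫ f = 𝟙 _ → ∀ x₀ : Xs, i x₀ = σ (IsLocalRing.closedPoint R) →
          (∀ η ∈ genericPoints (Xs : Type u), η ⤳ x₀ → η ∈ Y) →
          ∀ y : Spec (CommRingCat.of Ω) ⟶ Yg, y ≫ g = Spec.map (CommRingCat.ofHom φ) ≫ σ → y ≫ qY = 𝟙 _ →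
          ∀ v, (DerSch.stalkFunctor Yg (y (IsLocalRing.closedPoint Ω))).map θ v = 0 → v = 0 := by
  obtain ⟨C⟩ := exists_completed f i hsq
  obtain ⟨R', c, hcinj, X', f', p, hPB, hflat, hproper, i', q', rfl, hsq', hunif, e₀, he₀⟩ := C
  obtain ⟨ϖ, hϖ⟩ := IsDiscreteValuationRing.exists_irreducible R
  have ht : p.appTop (Coh.toGlobal f ϖ) = Coh.toGlobal f' (c ϖ) := by
    have h1 : Coh.toGlobal (p ≫ f) ϖ = p.appTop (Coh.toGlobal f ϖ) := rfl
    rw [← h1, hPB.w, Models7.toGlobal_comp_ringHom]
    rfl
  obtain ⟨F, P, hF, hP, hFf, e, he⟩ := exists_flatQuotient_bc f f' p i' hsq hsq' hϖ (hunif ϖ hϖ) ht In hIc hIf hIs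
    Y Y' hY' G G' π π' hG hG' hstep hdec
  haveI : IsLocallyNoetherian X := LocallyOfFiniteType.isLocallyNoetherian f
  haveI : IsLocallyNoetherian X' := LocallyOfFiniteType.isLocallyNoetherian f'
  obtain ⟨hi', ϖ₁, hϖ₁, hker'⟩ := exists_uniformizer f' i' hsq'
  haveI := hi'
  haveI : IsClosedImmersion (i' ≫ p) := (exists_uniformizer f (i' ≫ p) hsq).1
  haveI : IsLocallyNoetherian Xs := LocallyOfFiniteType.isLocallyNoetherian i'
  have hreg' : ∀ {N : X'.Modules}, FlatMod.IsFlatOver f' N → ∀ (x : X') (v : (DerSch.stalkFunctor X' x).obj N),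
      X'.presheaf.germ ⊤ x trivial (Coh.toGlobal f' ϖ₁) • v = 0 → v = 0 := fun hN x v hv =>
    regular_of_flat f' hN hϖ₁.ne_zero x v 0 (by rw [smul_zero, hv])
  let K' := FractionRing R'
  let Ω := AlgebraicClosure K'
  let ψ : R' →+* Ω := (algebraMap K' Ω).comp (algebraMap R' K')
  have hψ : Function.Injective ψ := (algebraMap K' Ω).injective.comp (IsFractionRing.injective R' K')
  haveI : Flat (Spec.map (CommRingCat.ofHom ψ)) := flat_specMap_field ψ hψ
  let σΩ := Spec.map (CommRingCat.ofHom ψ)
  let Yg := pullback f' σΩ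
  let g' : Yg ⟶ X' := pullback.fst f' σΩ
  haveI : Flat g' := MorphismProperty.pullback_fst (P := @Flat) _ _ inferInstance
  let qY : Yg ⟶ Spec (CommRingCat.of Ω) := pullback.snd f' σΩ
  letI : Yg.Over (Spec (CommRingCat.of Ω)) := ⟨qY⟩
  haveI : IsProper qY := MorphismProperty.pullback_snd (P := @IsProper) _ _ inferInstance
  have hYg : IsPullback (g' ≫ p) qY f (Spec.map (CommRingCat.ofHom (ψ.comp c))) := by
    rw [CommRingCat.ofHom_comp, Spec.map_comp]
    exact (IsPullback.of_hasPullback f' σΩ).paste_horiz hPB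
  let α := (Scheme.Modules.pullbackComp g' p).app (In 0)
  let θ : (Scheme.Modules.pullback (g' ≫ p)).obj (In 0) ⟶ (Scheme.Modules.pullback g').obj F :=
    α.inv ≫ (Scheme.Modules.pullback g').map P
  haveI hθ : Epi θ := by
    haveI : Epi ((Scheme.Modules.pullback g').map P) := inferInstance
    dsimp only [θ]; infer_instance
  -- Euler characteristics
  have hEfree := VarietyLib.isFinLocFreeOfRank_pullback p hE
  have hEfin : FlatMod.IsFinLocFree ((Scheme.Modules.pullback p).obj E) := VarietyLib.isFinLocFree_of_rank hEfree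
  have hEcoh : Coh.IsCoh ((Scheme.Modules.pullback p).obj E) := CohBC.isCoh_of_isFinLocFree hEfin
  have hsqκ : IsPullback (𝟙 Xs) q' (Xs ↘ Spec (CommRingCat.of (IsLocalRing.ResidueField R)))
      (Spec.map (CommRingCat.ofHom e₀.toRingHom)) := by
    haveI : IsIso (Spec.map (CommRingCat.ofHom e₀.toRingHom)) :=
      inferInstanceAs (IsIso (Spec.map e₀.toCommRingCatIso.hom))
    refine IsPullback.of_horiz_isIso ⟨?_⟩
    haveI : IsClosedImmersion (Spec.map (CommRingCat.ofHom (IsLocalRing.residue R))) :=
      IsClosedImmersion.spec_of_surjective _ IsLocalRing.residue_surjective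
    rw [Category.id_comp, ← cancel_mono (Spec.map (CommRingCat.ofHom (IsLocalRing.residue R))), ← hsq.w,
      Category.assoc, hPB.w, ← Category.assoc, hsq'.w, Category.assoc, Category.assoc, ← Spec.map_comp,
      ← Spec.map_comp, ← CommRingCat.ofHom_comp, ← CommRingCat.ofHom_comp]
    congr 3
    exact RingHom.ext fun a => (he₀ a).symm
  have heuler : ∀ (N : X'.Modules), Coh.IsCoh N → FlatMod.IsFlatOver f' N →
      Curv2.euler Ω Yg (CohB1.tensorMod ((Scheme.Modules.pullback g').obj N)
          ((Scheme.Modules.pullback (g' ≫ p)).obj E)) =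
        Curv2.euler (IsLocalRing.ResidueField R) Xs (CohB1.tensorMod ((Scheme.Modules.pullback i').obj N)
          ((Scheme.Modules.pullback (i' ≫ p)).obj E)) := by
    intro N hN hNf
    let T := CohB1.tensorMod N ((Scheme.Modules.pullback p).obj E)
    have hT : Coh.IsCoh T := VarietyLib.isCoh_tensor' hN hEcoh
    haveI := hT.1
    haveI := hEcoh.1
    have hTf : FlatMod.IsFlatOver f' T := fun x =>
      EGA43.DvrCrit.isFlatOverAt_of_iso f' (AmpleLib.tensorComm _ _) x (CohBC.isFlatOver_tensor f' hEfin hNf x)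
    have hc := (CohBC.isLocallyConstant_eulerChar f' hT hTf).apply_eq_of_isPreconnected
      PreconnectedSpace.isPreconnected_univ (Set.mem_univ (σΩ (IsLocalRing.closedPoint Ω)))
      (Set.mem_univ (Spec.map (CommRingCat.ofHom (IsLocalRing.residue R')) (IsLocalRing.closedPoint _)))
    have h1 := eulerChar_of_isPullback f' T (IsPullback.of_hasPullback f' σΩ) (IsLocalRing.closedPoint Ω)
    have h2 := eulerChar_of_isPullback f' T hsq' (IsLocalRing.closedPoint (IsLocalRing.ResidueField R'))
    rw [h1, h2] at hc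
    refine Eq.trans ?_ (hc.trans ?_)
    · exact EulerLib.euler_congr Ω Yg ((twistPull g' N _ ≪≫
        AmpleLib.tensorIso (Iso.refl _) ((Scheme.Modules.pullbackComp g' p).app E))).symm
    · letI ρ : Algebra (IsLocalRing.ResidueField R) (IsLocalRing.ResidueField R') := e₀.toRingHom.toAlgebra
      let M := (Scheme.Modules.pullback i').obj T
      haveI : Coh.IsQCoh M := EGA43.InjFibre.isQCoh_pullback _ T
      haveI : IsProper (Xs ↘ Spec (CommRingCat.of (IsLocalRing.ResidueField R))) :=
        MorphismProperty.of_isPullback hsq inferInstance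
      haveI : CompactSpace Xs :=
        QuasiCompact.compactSpace_of_compactSpace (Xs ↘ Spec (CommRingCat.of (IsLocalRing.ResidueField R)))
      haveI : QuasiSeparatedSpace Xs := inferInstance
      refine ((congrArg _ rfl).trans (@EulerLib.euler_congr (IsLocalRing.ResidueField R') _ Xs ⟨q'⟩ _ _
        ((Scheme.Modules.pullbackId Xs).app M)).symm).trans ?_
      refine (@Groth.Agent.CurveRR24.euler_bc _ _ _ _ ρ Xs Xs _ ⟨q'⟩ _ _ (𝟙 Xs) hsqκ M _).trans ?_
      exact EulerLib.euler_congr _ _ (twistPull i' N _ ≪≫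
          AmpleLib.tensorIso (Iso.refl _) ((Scheme.Modules.pullbackComp i' p).app E))
  have hMc : Coh.IsCoh ((Scheme.Modules.pullback p).obj (In 0)) := CycLib28.InterSheaf.isCoh_pullback p hIc
  refine ⟨Ω, inferInstance, inferInstance, ψ.comp c, Yg, g' ≫ p, qY, hψ.comp hcinj, hYg, _, θ,
    CycLib28.InterSheaf.isCoh_pullback g' hF, hθ, ?_, ?_, ?_, ?_⟩
  · rw [heuler F hF hFf]
    exact EulerLib.euler_congr _ _ (AmpleLib.tensorIso e (Iso.refl _))
  · have hMf : FlatMod.IsFlatOver f' ((Scheme.Modules.pullback p).obj (In 0)) := by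
      refine isFlatOver_of_regular f' (hunif ϖ hϖ) _ fun x v hv => ?_
      haveI : Mono (EulerLib.smulMod (In 0) (Coh.toGlobal f ϖ)) := mono_of_stalks_injective _ fun x u w huw => by
        rw [map_smulMod, map_smulMod] at huw
        exact regular_of_flat f hIf hϖ.ne_zero x u w huw
      haveI hm : Mono (EulerLib.smulMod ((Scheme.Modules.pullback p).obj (In 0)) (Coh.toGlobal f' (c ϖ))) := by
        rw [← ht, ← pullback_map_smulMod']
        infer_instance
      refine stalk_injective (EulerLib.smulMod ((Scheme.Modules.pullback p).obj (In 0)) (Coh.toGlobal f' (c ϖ))) x ?_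
      rw [map_smulMod, map_smulMod, hv, smul_zero]
    refine (EulerLib.euler_congr Ω Yg (AmpleLib.tensorIso α (Iso.refl _))).symm.trans ((heuler _ hMc hMf).trans ?_)
    exact EulerLib.euler_congr _ _ (AmpleLib.tensorIso ((Scheme.Modules.pullbackComp i' p).app (In 0)) (Iso.refl _))
  · intro hiso
    haveI : IsIso ((Scheme.Modules.pullback g').map P) := by
      rw [show (Scheme.Modules.pullback g').map P = α.hom ≫ θ by simp [θ]]
      infer_instance
    have hKc : Coh.IsCoh (kernel P) := Coherent.isCoh_kernel P hMc hF.1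
    haveI : IsClosedImmersion i' := hi'
    have hK : ∀ (x : X') (v : (DerSch.stalkFunctor X' x).obj (kernel P)), v = 0 := by
      refine eq_zero_of_generic_fibre i' hker' hKc.1 (fun x v hv => ?_) fun z hz v => ?_
      · apply stalk_injective (kernel.ι P) x
        rw [map_zero]
        have hMf : ∀ u, X'.presheaf.germ ⊤ x trivial (Coh.toGlobal f' ϖ₁) • u = 0 →
            (u : (DerSch.stalkFunctor X' x).obj ((Scheme.Modules.pullback p).obj (In 0))) = 0 := by
          intro u hu
          obtain ⟨w, hw⟩ := IsDiscreteValuationRing.associated_of_irreducible R' hϖ₁ (hunif ϖ hϖ)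
          haveI : Mono (EulerLib.smulMod (In 0) (Coh.toGlobal f ϖ)) := mono_of_stalks_injective _ fun x u w huw => by
            rw [map_smulMod, map_smulMod] at huw
            exact regular_of_flat f hIf hϖ.ne_zero x u w huw
          haveI hm : Mono (EulerLib.smulMod ((Scheme.Modules.pullback p).obj (In 0)) (Coh.toGlobal f' (c ϖ))) := by
            rw [← ht, ← pullback_map_smulMod']
            infer_instance
          refine stalk_injective (EulerLib.smulMod ((Scheme.Modules.pullback p).obj (In 0)) (Coh.toGlobal f' (c ϖ))) x ?_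
          rw [map_smulMod, map_smulMod, smul_zero, ← hw, map_mul, map_mul, mul_comm, mul_smul, hu, smul_zero]
        exact hMf _ (by rw [← map_smul, hv, map_zero])
      · apply stalk_injective (kernel.ι P) z
        rw [map_zero]
        obtain ⟨y, hy⟩ : z ∈ Set.range g' := by
          rw [Scheme.Pullback.range_fst]
          refine ⟨IsLocalRing.closedPoint Ω, ?_⟩
          by_contra hne
          refine hz ((mem_range_iff f' i' hsq' z).2 ?_)
          let a : PrimeSpectrum R' := f' z
          have ha : a.asIdeal ≠ ⊥ := fun h0 => hne (PrimeSpectrum.ext (by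
            show Ideal.comap ψ (IsLocalRing.maximalIdeal Ω) = a.asIdeal
            rw [h0, IsLocalRing.maximalIdeal_eq_bot, Ideal.comap_bot_of_injective ψ hψ]))
          exact PrimeSpectrum.ext (IsLocalRing.eq_maximalIdeal (a.isPrime.isMaximal ha))
        subst hy
        refine pbs_injective_of_flat g' _ y ((stalk_injective ((Scheme.Modules.pullback g').map P) y) ?_ |>.trans (map_zero _).symm)
        rw [pbs_map, ← map_comp_apply, kernel.condition, map_zero_apply, map_zero, map_zero]
    haveI : Mono P := Abelian.mono_of_kernel_ι_eq_zero P (VarietyLib.eq_zero_of_stalks _ fun x v => by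
      rw [hK x v, map_zero])
    haveI : IsIso P := isIso_of_mono_of_epi P
    rw [show π 0 = ((Scheme.Modules.pullbackComp i' p).app (In 0)).inv ≫ (Scheme.Modules.pullback i').map P ≫ e.hom by
      rw [he]; simp]
    infer_instance
  · intro σ hσ x₀ hx₀ hY₀ y hyg hyq v hv
    let σ' : Spec (CommRingCat.of R') ⟶ X' := hPB.lift (Spec.map (CommRingCat.ofHom c) ≫ σ) (𝟙 _) (by
      rw [Category.assoc, hσ, Category.comp_id, Category.id_comp])
    have hyσ : y ≫ g' = σΩ ≫ σ' := by
      refine hPB.hom_ext ?_ ?_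
      · rw [Category.assoc, Category.assoc, IsPullback.lift_fst, hyg, ← Category.assoc]
        congr 1
        rw [← Spec.map_comp, ← CommRingCat.ofHom_comp]
      · rw [Category.assoc, pullback.condition, ← Category.assoc, Category.assoc σΩ, IsPullback.lift_snd, Category.comp_id]
        rw [show y ≫ pullback.snd f' σΩ = 𝟙 _ from hyq, Category.id_comp]
    let x₁ : X' := σ' (IsLocalRing.closedPoint R')
    have hx₁ : x₁ = i' x₀ := by
      obtain ⟨x₂, hx₂⟩ : x₁ ∈ Set.range i' := by
        rw [mem_range_iff f' i' hsq']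
        show (σ' ≫ f') (IsLocalRing.closedPoint R') = _
        rw [IsPullback.lift_snd]
        rfl
      have hp : (i' ≫ p) x₂ = σ (IsLocalRing.closedPoint R) := by
        rw [Scheme.Hom.comp_apply, hx₂]
        show (σ' ≫ p) (IsLocalRing.closedPoint R') = _
        rw [IsPullback.lift_fst, Scheme.Hom.comp_apply]
        refine congrArg σ ?_
        haveI : IsLocalHom c := ⟨fun a ha => by
          by_contra hna
          have hm : a ∈ IsLocalRing.maximalIdeal R := hna
          rw [(IsDiscreteValuationRing.irreducible_iff_uniformizer ϖ).1 hϖ, Ideal.mem_span_singleton] at hm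
          obtain ⟨b, rfl⟩ := hm
          rw [map_mul] at ha
          exact (hunif ϖ hϖ).not_isUnit (isUnit_of_mul_isUnit_left ha)⟩
        exact IsLocalRing.comap_closedPoint c
      rw [← hx₀] at hp
      rw [← hx₂, (i' ≫ p).isClosedEmbedding.injective hp]
    have hz : g' (y (IsLocalRing.closedPoint Ω)) ⤳ i' x₀ := by
      rw [← hx₁, ← Scheme.Hom.comp_apply, hyσ, Scheme.Hom.comp_apply]
      exact (IsLocalRing.specializes_closedPoint _).map σ'.continuous
    have hπ : ∀ w, (DerSch.stalkFunctor Xs x₀).map (π 0) w = 0 → w = 0 := fun w hw =>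
      eq_zero_of_generic hIs.1.1 hIs.2.1 w fun η hη hs =>
        (map_eq_zero_iff (leOne_of_isRkOne hIs.2.2) (hG 0) w).1 hw η hη (hY₀ η hη hs) hs
    have hP0 : ∀ w, (DerSch.stalkFunctor X' (i' x₀)).map P w = 0 → w = 0 := by
      refine quotient_injective_at i' hker' hMc P (hreg' hFf) x₀ fun w hw => ?_
      apply stalk_injective ((Scheme.Modules.pullbackComp i' p).app (In 0)).hom x₀
      rw [map_zero]
      refine hπ _ ?_
      rw [← map_comp_apply, ← he, map_comp_apply]
      exact (congrArg _ hw).trans (map_zero _)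
    have hKz : ∀ w, (DerSch.stalkFunctor X' (g' (y (IsLocalRing.closedPoint Ω)))).map P w = 0 → w = 0 := by
      intro w hw
      have hKc : Coh.IsCoh (kernel P) := Coherent.isCoh_kernel P hMc hF.1
      haveI := hKc.1
      obtain ⟨k, rfl⟩ := exists_kernel_lift P w hw
      have hk0 : ∀ k' : (DerSch.stalkFunctor X' (i' x₀)).obj (kernel P), k' = 0 := fun k' =>
        stalk_injective (kernel.ι P) _ ((hP0 _ (by rw [← map_comp_apply, kernel.condition, map_zero_apply])).trans
          (map_zero _).symm)
      have hns : i' x₀ ∉ CohB1.support (kernel P) := fun hs => hs (subsingleton_of_forall_eq 0 hk0)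
      have hzs : g' (y (IsLocalRing.closedPoint Ω)) ∉ CohB1.support (kernel P) := fun hs =>
        hns (hz.mem_closed (isClosed_support _ (locallyFinGen_of_isFT _ hKc.2)) hs)
      haveI : Subsingleton ((kernel P).presheaf.stalk (g' (y (IsLocalRing.closedPoint Ω)))) := not_not.1 hzs
      rw [Subsingleton.elim (α := (kernel P).presheaf.stalk (g' (y (IsLocalRing.closedPoint Ω)))) k 0, map_zero]
    have hinj := pullback_map_injective_at g' P (y (IsLocalRing.closedPoint Ω)) ((injective_iff_map_eq_zero _).2 hKz)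
    rw [map_comp_apply] at hv
    have := hinj (hv.trans (map_zero _).symm)
    exact stalk_injective α.inv _ (this.trans (map_zero _).symm)

end Groth.Agent.TF7
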