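import Groth.Agent.TF7.Completion.Setup
import Groth.Agent.TF7.Beta
import Groth.Agent.Coherent.CohBC.FibreField
import Groth.Agent.Coherent.CohBC.HomCorep
import Groth.Agent.Coherent.FlatBaseChangeMain
import Groth.Agent.RefHullLib.ClassLaw
import Groth.Agent.VarietyLib.CurveDegree
import Groth.Agent.CycLib28.StalkGen
import Groth.Agent.DCat.PullTensor

/-!
# The generic geometric fibre of an algebraized quotient
-/

set_option autoImplicit false
set_option linter.style.haveILetI false
set_option backward.isDefEq.respectTransparency.types false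
set_option backward.isDefEq.respectTransparency false
set_option maxHeartbeats 1000000

universe u

open CategoryTheory CategoryTheory.Limits AlgebraicGeometry Opposite TopologicalSpace
open Groth.Agent.OmegaLib Groth.Agent.Coherent
open scoped TensorProduct

noncomputable section

namespace Groth.Agent.TF7

variable {X Z : Scheme.{u}} (i : Z ⟶ X) {t : Γ(X, ⊤)}

local notation "Sx" => DerSch.stalkFunctor X
local notation "Sz" => DerSch.stalkFunctor Z

/-- A coherent module without `t`-torsion whose stalks off `V(t)` vanish is zero. -/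
theorem eq_zero_of_generic_fibre [IsLocallyNoetherian X]
    (hker : ∀ y, RingHom.ker (i.stalkMap y).hom = Ideal.span {X.presheaf.germ ⊤ (i y) trivial t})
    {K : X.Modules} (hK : Coh.IsQCoh K)
    (hreg : ∀ (x : X) (v : (Sx x).obj K), X.presheaf.germ ⊤ x trivial t • v = 0 → v = 0)
    (h : ∀ z, z ∉ Set.range i → ∀ v : (Sx z).obj K, v = 0) (x : X) (k : (Sx x).obj K) : k = 0 := by
  let A := X.presheaf.stalk x
  let a : A := X.presheaf.germ ⊤ x trivial t
  let J : Ideal A := LinearMap.ker (LinearMap.toSpanSingleton A (K.presheaf.stalk x) k)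
  have hrad : a ∈ J.radical := by
    rw [Ideal.radical_eq_sInf]
    refine Submodule.mem_sInf.2 fun Q hQ => ?_
    by_contra haQ
    obtain ⟨ρ, hρ, hloc⟩ := CycLib28.isLocalizedModule_stalkSpecializes hK x ⟨Q, hQ.2⟩
    let z : X := X.fromSpecStalk x ⟨Q, hQ.2⟩
    have hzx : z ⤳ x := CycLim28.fromSpecStalk_specializes x _
    have hz : z ∉ Set.range i := by
      rintro ⟨y, hy⟩
      have hu : IsUnit ((X.presheaf.stalkSpecializes hzx).hom a) := by
        have e := congrArg PrimeSpectrum.asIdeal (CycLib28.eq_comap_closedPoint x ⟨Q, hQ.2⟩)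
        rw [PrimeSpectrum.comap_asIdeal] at e
        change Q = _ at e
        rw [e, Ideal.mem_comap] at haQ
        exact IsLocalRing.notMem_maximalIdeal.1 haQ
      have hza : (X.presheaf.stalkSpecializes hzx).hom a = X.presheaf.germ ⊤ z trivial t :=
        TopCat.Presheaf.germ_stalkSpecializes_apply X.presheaf (U := (⊤ : X.Opens)) trivial hzx t
      rw [hza] at hu
      revert hu
      rw [← hy]
      intro hu
      have h0 : (i.stalkMap y).hom (X.presheaf.germ ⊤ (i y) trivial t) = 0 := by
        rw [← RingHom.mem_ker, hker]; exact Ideal.mem_span_singleton_self _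
      exact not_isUnit_zero (h0 ▸ hu.map (i.stalkMap y).hom)
    have h0 : ρ k = 0 := (hρ k).trans (h z hz _)
    letI := Module.compHom (K.presheaf.stalk z) (X.presheaf.stalkSpecializes hzx).hom
    obtain ⟨⟨c, hc⟩, hck⟩ := (IsLocalizedModule.eq_zero_iff (Ideal.primeCompl Q (hp := hQ.2)) ρ).1 h0
    haveI := hQ.2
    exact hc (hQ.1 hck)
  obtain ⟨n, hn⟩ := hrad
  have hn' : a ^ n • k = 0 := hn
  clear hn
  induction n with
  | zero => simpa using hn'
  | succ n ih => exact ih (hreg x _ (by rw [smul_smul, ← pow_succ']; exact hn'))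

/-- Injectivity at a point of the closed fibre lifts. -/
theorem quotient_injective_at [IsClosedImmersion i] [IsLocallyNoetherian X]
    (hker : ∀ y, RingHom.ker (i.stalkMap y).hom = Ideal.span {X.presheaf.germ ⊤ (i y) trivial t})
    {M F : X.Modules} (hM : Coh.IsCoh M) (P : M ⟶ F)
    (hreg : ∀ (x : X) (v : (Sx x).obj F), X.presheaf.germ ⊤ x trivial t • v = 0 → v = 0)
    (y : Z) (hy : ∀ v, (Sz y).map ((Scheme.Modules.pullback i).map P) v = 0 → v = 0)
    (m : (Sx (i y)).obj M) (hm : (Sx (i y)).map P m = 0) : m = 0 := by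
  haveI := hM.1
  haveI : Module.Finite (X.presheaf.stalk (i y)) (M.presheaf.stalk (i y)) := AssSch12.finite_stalk hM _
  let L : Submodule (X.presheaf.stalk (i y)) ((Sx (i y)).obj M) := LinearMap.ker ((Sx (i y)).map P).hom
  haveI : Module.Finite (X.presheaf.stalk (i y)) ((Sx (i y)).obj M) := AssSch12.finite_stalk hM _
  haveI : IsNoetherianRing (X.presheaf.stalk (i y)) := inferInstance
  let c := X.presheaf.germ ⊤ (i y) trivial t
  have hcm : c ∈ IsLocalRing.maximalIdeal (X.presheaf.stalk (i y)) := by
    rw [IsLocalRing.mem_maximalIdeal]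
    intro hu
    have h0 : (i.stalkMap y).hom c = 0 := by
      rw [← RingHom.mem_ker, hker]; exact Ideal.mem_span_singleton_self _
    exact not_isUnit_zero (h0 ▸ hu.map (i.stalkMap y).hom)
  have hle : L ≤ IsLocalRing.maximalIdeal (X.presheaf.stalk (i y)) • L := by
    intro v hv
    have h0 : pbs i M y v = 0 := hy _ (by rw [pbs_map, show (Sx (i y)).map P v = 0 from hv, map_zero])
    obtain ⟨a, rfl⟩ := (pbs_eq_zero_iff i hker M y v).1 h0
    refine Submodule.smul_mem_smul hcm ?_
    exact hreg _ _ (by rw [← map_smul]; exact hv)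
  have hL : L = ⊥ := Submodule.eq_bot_of_le_smul_of_le_jacobson_bot _ _ (IsNoetherian.noetherian L) hle
    (IsLocalRing.maximalIdeal_le_jacobson ⊥)
  exact (Submodule.mem_bot _).1 (hL ▸ (show m ∈ L from hm))

end Groth.Agent.TF7
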