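import Groth.Agent.TF7.Completion.Tower
import Groth.Agent.S0549
import Mathlib.RingTheory.AdicCompletion.AsTensorProduct

/-!
# The base change to the completion of a discrete valuation ring
-/

set_option autoImplicit false
set_option linter.style.haveILetI false
set_option backward.isDefEq.respectTransparency.types false
set_option backward.isDefEq.respectTransparency false

universe u

open CategoryTheory CategoryTheory.Limits AlgebraicGeometry IsLocalRing

noncomputable section

namespace Groth.Agent.TF7

/-- A completed base with the same special fibre. -/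
structure Completed {R : Type u} [CommRing R] [IsDomain R] [IsDiscreteValuationRing R] {X : Scheme.{u}}
    (f : X ⟶ Spec (CommRingCat.of R)) {Xs : Scheme.{u}} (i : Xs ⟶ X) where
  R' : Type u
  [comm : CommRing R']
  [dom : IsDomain R']
  [dvr : IsDiscreteValuationRing R']
  [compl : IsAdicComplete (maximalIdeal R') R']
  c : R →+* R'
  inj : Function.Injective c
  X' : Scheme.{u}
  f' : X' ⟶ Spec (CommRingCat.of R')
  p : X' ⟶ X
  isPullback : IsPullback p f' f (Spec.map (CommRingCat.ofHom c))
  flat : Flat p
  proper : IsProper f'
  i' : Xs ⟶ X'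
  q' : Xs ⟶ Spec (CommRingCat.of (ResidueField R'))
  hi : i' ≫ p = i
  hsq : IsPullback i' q' f' (Spec.map (CommRingCat.ofHom (residue R')))
  uniformizer : ∀ ϖ : R, Irreducible ϖ → Irreducible (c ϖ)
  e : ResidueField R ≃+* ResidueField R'
  he : ∀ a : R, e (residue R a) = residue R' (c a)

theorem exists_completed {R : Type u} [CommRing R] [IsDomain R] [IsDiscreteValuationRing R] {X : Scheme.{u}}
    (f : X ⟶ Spec (CommRingCat.of R)) [IsProper f] {Xs : Scheme.{u}} (i : Xs ⟶ X)
    {q : Xs ⟶ Spec (CommRingCat.of (ResidueField R))}
    (hsq : IsPullback i q f (Spec.map (CommRingCat.ofHom (residue R)))) : Nonempty (Completed f i) := by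
  let R' := AdicCompletion (maximalIdeal R) R
  obtain ⟨hdom, hdvr⟩ := (Groth.Agent.S0549.result R).1 ⟨inferInstance, inferInstance⟩
  haveI : IsDiscreteValuationRing R' := hdvr
  let c : R →+* R' := algebraMap R R'
  haveI : Flat (Spec.map (CommRingCat.ofHom c)) := by
    rw [HasRingHomProperty.Spec_iff (P := @Flat)]
    exact RingHom.flat_algebraMap_iff.2 (AdicCompletion.flat_of_isNoetherian _)
  let p := pullback.fst f (Spec.map (CommRingCat.ofHom c))
  let f' := pullback.snd f (Spec.map (CommRingCat.ofHom c))
  let e := RingEquiv.ofBijective _ (AdicCompletion.residueField_map_bijective R)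
  let E : Spec (CommRingCat.of (ResidueField R')) ≅ Spec (CommRingCat.of (ResidueField R)) :=
    Scheme.Spec.mapIso e.toCommRingCatIso.op
  have hE : E.hom ≫ Spec.map (CommRingCat.ofHom (residue R)) =
      Spec.map (CommRingCat.ofHom (residue R')) ≫ Spec.map (CommRingCat.ofHom c) := by
    show Spec.map _ ≫ _ = _
    rw [← Spec.map_comp, ← Spec.map_comp]
    rfl
  let q' := q ≫ E.inv
  have hq : IsPullback i q' f (Spec.map (CommRingCat.ofHom (residue R')) ≫ Spec.map (CommRingCat.ofHom c)) :=
    IsPullback.of_iso hsq (Iso.refl _) (Iso.refl _) E.symm (Iso.refl _) (by simp) (by simp [q'])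
      (by simp) (by rw [← hE]; simp)
  let i' : Xs ⟶ pullback f (Spec.map (CommRingCat.ofHom c)) :=
    pullback.lift i (q' ≫ Spec.map (CommRingCat.ofHom (residue R'))) (by rw [hq.w]; simp only [q', Category.assoc])
  have hi : i' ≫ p = i := pullback.lift_fst _ _ _
  refine ⟨{
    R' := R', c := c, inj := ?_, X' := _, f' := f', p := p
    isPullback := IsPullback.of_hasPullback _ _
    flat := MorphismProperty.pullback_fst (P := @Flat) _ _ inferInstance
    proper := MorphismProperty.pullback_snd (P := @IsProper) _ _ inferInstance
    i' := i', q' := q', hi := hi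
    hsq := IsPullback.of_right (by rw [hi]; exact hq) (pullback.lift_snd _ _ _) (IsPullback.of_hasPullback _ _)
    uniformizer := fun ϖ hϖ => ?_
    e := e, he := fun a => rfl }⟩
  · exact AdicCompletion.of_injective _ _
  · rw [IsDiscreteValuationRing.irreducible_iff_uniformizer, AdicCompletion.maximalIdeal_eq_map]
    have h := congrArg (Ideal.map c) ((IsDiscreteValuationRing.irreducible_iff_uniformizer ϖ).1 hϖ)
    rw [Ideal.map_span, Set.image_singleton] at h
    exact h

end Groth.Agent.TF7
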