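import Groth.Agent.TF7.Completion.Stalk
import Groth.Agent.CycLib28.InterPull

/-!
# Algebraization of a decomposed tower after flat base change to a complete base
-/

set_option autoImplicit false
set_option linter.style.haveILetI false
set_option backward.isDefEq.respectTransparency.types false
set_option backward.isDefEq.respectTransparency false
set_option maxHeartbeats 1000000

universe u

open CategoryTheory CategoryTheory.Limits AlgebraicGeometry Opposite TopologicalSpace
open Groth.Agent.OmegaLib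

noncomputable section

namespace Groth.Agent.TF7

theorem isTF1_of_iso {X : Scheme.{u}} {A B : X.Modules} (e : A ≅ B) (h : TFOne.IsTF1 X A) : TFOne.IsTF1 X B :=
  ⟨⟨Coherent.isQCoh_of_iso e (h := h.1.1), Coherent.isFT_of_epi e.hom h.1.2⟩,
    fun x => by
      haveI := h.2.1 x
      let L : (DerSch.stalkFunctor X x).obj B ≃ₗ[X.presheaf.stalk x] (DerSch.stalkFunctor X x).obj A :=
        ((DerSch.stalkFunctor X x).mapIso e.symm).toLinearEquiv
      haveI : Module.IsTorsionFree (X.presheaf.stalk x) ((DerSch.stalkFunctor X x).obj A) := h.2.1 x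
      exact Function.Injective.moduleIsTorsionFree (f := L) L.injective (map_smul L),
    fun η hη => (h.2.2 η hη).map fun l =>
      (((DerSch.stalkFunctor X η).mapIso e.symm).toLinearEquiv : B.presheaf.stalk η ≃ₗ[X.presheaf.stalk η] A.presheaf.stalk η).trans l⟩

theorem isQuotOn_of_iso {X : Scheme.{u}} {A B G : X.Modules} (e : A ≅ B) {Y : Set X} {π : B ⟶ G}
    (h : TFOne.IsQuotOn X B Y G π) : TFOne.IsQuotOn X A Y G (e.hom ≫ π) :=
  ⟨haveI := h.1; inferInstance, h.2⟩

variable {R : Type u} [CommRing R] [IsDomain R] [IsDiscreteValuationRing R] {X : Scheme.{u}}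
  (f : X ⟶ Spec (CommRingCat.of R)) [IsProper f] {Xs : Scheme.{u}}
  [Xs.Over (Spec (CommRingCat.of (IsLocalRing.ResidueField R)))] [IsReduced Xs]
  {R' : Type u} [CommRing R'] [IsDomain R'] [IsDiscreteValuationRing R']
  [IsAdicComplete (IsLocalRing.maximalIdeal R') R'] {X' : Scheme.{u}}
  (f' : X' ⟶ Spec (CommRingCat.of R')) [IsProper f'] (p : X' ⟶ X) [Flat p] (i' : Xs ⟶ X')
  {q' : Xs ⟶ Spec (CommRingCat.of (IsLocalRing.ResidueField R'))}

local notation "Sx" => DerSch.stalkFunctor X
local notation "Sy" => DerSch.stalkFunctor X'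

/-- A tower which decomposes at every step gives a flat quotient over the completed base. -/
theorem exists_flatQuotient_bc
    (hsq : IsPullback (i' ≫ p) (Xs ↘ Spec (CommRingCat.of (IsLocalRing.ResidueField R))) f
      (Spec.map (CommRingCat.ofHom (IsLocalRing.residue R))))
    (hsq' : IsPullback i' q' f' (Spec.map (CommRingCat.ofHom (IsLocalRing.residue R'))))
    {ϖ : R} {ϖ' : R'} (hϖ : Irreducible ϖ) (hϖ' : Irreducible ϖ')
    (ht : p.appTop (Coh.toGlobal f ϖ) = Coh.toGlobal f' ϖ')
    (In : ℕ → X.Modules) (hIc : Coh.IsCoh (In 0)) (hIf : FlatMod.IsFlatOver f (In 0))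
    (hIs : TFOne.IsTF1 Xs ((Scheme.Modules.pullback (i' ≫ p)).obj (In 0))) (Y Y' : Set Xs)
    (hY' : ∀ η ∈ genericPoints (Xs : Type u), η ∈ Y' ↔ η ∉ Y) (G G' : ℕ → Xs.Modules)
    (π : ∀ n, (Scheme.Modules.pullback (i' ≫ p)).obj (In n) ⟶ G n)
    (π' : ∀ n, (Scheme.Modules.pullback (i' ≫ p)).obj (In n) ⟶ G' n)
    (hG : ∀ n, TFOne.IsQuotOn Xs ((Scheme.Modules.pullback (i' ≫ p)).obj (In n)) Y (G n) (π n))
    (hG' : ∀ n, TFOne.IsQuotOn Xs ((Scheme.Modules.pullback (i' ≫ p)).obj (In n)) Y' (G' n) (π' n))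
    (hstep : ∀ n, In (n + 1) = kernel ((Scheme.Modules.pullbackPushforwardAdjunction (i' ≫ p)).unit.app (In n) ≫
      (Scheme.Modules.pushforward (i' ≫ p)).map (π n)))
    (hdec : ∀ n, IsIso (biprod.lift (π (n + 1)) (π' (n + 1)))) :
    ∃ (F : X'.Modules) (P : (Scheme.Modules.pullback p).obj (In 0) ⟶ F), Coh.IsCoh F ∧ Epi P ∧
      FlatMod.IsFlatOver f' F ∧ ∃ e : (Scheme.Modules.pullback i').obj F ≅ G 0,
        (Scheme.Modules.pullback i').map P ≫ e.hom = ((Scheme.Modules.pullbackComp i' p).app (In 0)).hom ≫ π 0 := by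
  obtain ⟨hi, ϖ₀, hϖ₀, hker₀⟩ := exists_uniformizer f (i' ≫ p) hsq
  haveI := hi
  obtain ⟨hi', ϖ₁, hϖ₁, hker₁⟩ := exists_uniformizer f' i' hsq'
  haveI := hi'
  haveI : IsLocallyNoetherian X := LocallyOfFiniteType.isLocallyNoetherian f
  haveI : IsLocallyNoetherian X' := LocallyOfFiniteType.isLocallyNoetherian f'
  haveI : IsLocallyNoetherian Xs := LocallyOfFiniteType.isLocallyNoetherian i'
  haveI : CompactSpace X' := QuasiCompact.compactSpace_of_compactSpace f'
  letI : X'.Over (Spec (CommRingCat.of R')) := ⟨f'⟩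
  haveI : IsProper (X' ↘ Spec (CommRingCat.of R')) := ‹IsProper f'›
  let t := Coh.toGlobal f ϖ
  let t' := Coh.toGlobal f' ϖ'
  have hspan : ∀ {A : Type u} [CommRing A] [IsDomain A] [IsDiscreteValuationRing A] {S : Type u} [CommRing S]
      (φ : A →+* S) {a b : A}, Irreducible a → Irreducible b → Ideal.span {φ a} = Ideal.span {φ b} := by
    intro A _ _ _ S _ φ a b ha hb
    rw [← Set.image_singleton, ← Ideal.map_span, ← (IsDiscreteValuationRing.irreducible_iff_uniformizer a).1 ha,
      ← Set.image_singleton, ← Ideal.map_span, ← (IsDiscreteValuationRing.irreducible_iff_uniformizer b).1 hb]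
  have hker : ∀ y, RingHom.ker ((i' ≫ p).stalkMap y).hom =
      Ideal.span {X.presheaf.germ ⊤ ((i' ≫ p) y) trivial t} := fun y =>
    (hker₀ y).trans (hspan ((X.presheaf.germ ⊤ ((i' ≫ p) y) trivial).hom.comp (Coh.toGlobal f)) hϖ₀ hϖ)
  have hker' : ∀ y, RingHom.ker (i'.stalkMap y).hom = Ideal.span {X'.presheaf.germ ⊤ (i' y) trivial t'} := fun y =>
    (hker₁ y).trans (hspan ((X'.presheaf.germ ⊤ (i' y) trivial).hom.comp (Coh.toGlobal f')) hϖ₁ hϖ')
  have hinv := steps_invariant f (i' ≫ p) hsq In hIc hIf hIs (fun _ => Y) G π hG hstep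
  let ι : ∀ n, In (n + 1) ⟶ In n := fun n => eqToHom (hstep n) ≫ kernel.ι _
  have hιinj := fun n => (kernelι_data f (In n) (hinv n).2.1 hϖ _ (hstep n)).1
  haveI hmono : ∀ n, Mono (ι n) := fun n => by dsimp only [ι]; infer_instance
  have hK := fun n => exists_kernel_preimage (i' ≫ p) _ hker (In n) (π n)
  have htrans : ∀ n (x : X) (c : (Sx x).obj (kernel ((Scheme.Modules.pullbackPushforwardAdjunction (i' ≫ p)).unit.app (In n) ≫
      (Scheme.Modules.pushforward (i' ≫ p)).map (π n)))),
      (Sx x).map (ι n) ((Sx x).map (eqToHom (hstep n).symm) c) = (Sx x).map (kernel.ι _) c := fun n x c => by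
    show (Sx x).map (eqToHom (hstep n) ≫ kernel.ι _) _ = _
    rw [← map_comp_apply, eqToHom_trans_assoc, eqToHom_refl, Category.id_comp]
  have hs : ∀ n, ∃ s : In n ⟶ In (n + 1), s ≫ ι n = EulerLib.smulMod (In n) t := fun n =>
    exists_smul_factor (ι n) t fun x b => by
      obtain ⟨c, hc⟩ := (hK n).2.2 x b
      exact ⟨_, (htrans n _ c).trans hc⟩
  let M : ℕ → X'.Modules := fun n => (Scheme.Modules.pullback p).obj (In n)
  let α : ∀ n, (Scheme.Modules.pullback i').obj (M n) ≅ (Scheme.Modules.pullback (i' ≫ p)).obj (In n) :=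
    fun n => (Scheme.Modules.pullbackComp i' p).app (In n)
  let π₁ : ∀ n, (Scheme.Modules.pullback i').obj (M n) ⟶ G n := fun n => (α n).hom ≫ π n
  let π₁' : ∀ n, (Scheme.Modules.pullback i').obj (M n) ⟶ G' n := fun n => (α n).hom ≫ π' n
  haveI hιm : ∀ n, Mono ((Scheme.Modules.pullback p).map (ι n)) := fun n => inferInstance
  have tmul : ∀ n (x : X') (a : (Sy x).obj (M n)),
      ∃ c, (Sy x).map ((Scheme.Modules.pullback p).map (ι n)) c = X'.presheaf.germ ⊤ x trivial t' • a := by
    intro n x a
    obtain ⟨s, hs⟩ := hs n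
    refine ⟨(Sy x).map ((Scheme.Modules.pullback p).map s) a, ?_⟩
    rw [← map_comp_apply, ← Functor.map_comp, hs, pullback_map_smulMod', map_smulMod, show p.appTop t = t' from ht]
  let T : Tower i' t' Y Y' :=
    { M := M, ι := fun n => (Scheme.Modules.pullback p).map (ι n), G := G, G' := G', π := π₁, π' := π₁'
      tf := fun n => isTF1_of_iso (α n).symm (hinv n).2.2
      hG := fun n => isQuotOn_of_iso (α n) (hG n)
      hG' := fun n => isQuotOn_of_iso (α n) (hG' n)
      hY' := hY', hker := hker'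
      inj := fun n x => stalk_injective _ x
      comp := fun n => by
        show (Scheme.Modules.pullback i').map ((Scheme.Modules.pullback p).map (ι n)) ≫ (α n).hom ≫ π n = 0
        rw [← Category.assoc, show (Scheme.Modules.pullback i').map ((Scheme.Modules.pullback p).map (ι n)) ≫ (α n).hom =
          (α (n + 1)).hom ≫ (Scheme.Modules.pullback (i' ≫ p)).map (ι n) from
            (Scheme.Modules.pullbackComp i' p).hom.naturality (ι n), Category.assoc]
        have : (Scheme.Modules.pullback (i' ≫ p)).map (ι n) ≫ π n = 0 := by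
          show (Scheme.Modules.pullback (i' ≫ p)).map (eqToHom (hstep n) ≫ kernel.ι _) ≫ π n = 0
          rw [Functor.map_comp, Category.assoc]
          exact (congrArg _ (hK n).1).trans comp_zero
        rw [this, comp_zero]
      exK := fun n y a ha => by
        have hdec' : ∀ v : (Sy (i' y)).obj (M n), ∃ (m : (Sx (p (i' y))).obj (In n)) (v' : (Sy (i' y)).obj (M n)),
            v = pbs p (In n) (i' y) m + X'.presheaf.germ ⊤ (i' y) trivial t' • v' := by
          intro v
          induction v using pbs_induction p (In n) (i' y) with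
          | h0 => exact ⟨0, 0, by rw [map_zero, smul_zero, add_zero]⟩
          | hs b m =>
            obtain ⟨c, hc⟩ := (i' ≫ p).stalkMap_surjective y ((i'.stalkMap y).hom b)
            have hmem : b - (p.stalkMap (i' y)).hom c ∈ RingHom.ker (i'.stalkMap y).hom := by
              rw [RingHom.mem_ker, map_sub, sub_eq_zero, ← hc, Scheme.Hom.stalkMap_comp]
              rfl
            rw [hker' y] at hmem
            obtain ⟨d, hd⟩ := Ideal.mem_span_singleton'.1 hmem
            refine ⟨c • m, d • pbs p (In n) (i' y) m, ?_⟩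
            rw [pbs_smul', smul_smul, ← add_smul, mul_comm, hd, add_sub_cancel]
          | ha u v hu hv =>
            obtain ⟨m, u', rfl⟩ := hu
            obtain ⟨m', v', rfl⟩ := hv
            exact ⟨m + m', u' + v', by rw [map_add, smul_add]; abel⟩
        obtain ⟨m, v', rfl⟩ := hdec' a
        have h1 : (DerSch.stalkFunctor Xs y).map (π n) (pbs (i' ≫ p) (In n) y m) = 0 := by
          have h2 : (DerSch.stalkFunctor Xs y).map (α n).hom
              (pbs i' (M n) y (pbs p (In n) (i' y) m + X'.presheaf.germ ⊤ (i' y) trivial t' • v')) =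
              pbs (i' ≫ p) (In n) y m := by
            rw [map_add, (pbs_eq_zero_iff i' hker' (M n) y _).2 ⟨v', rfl⟩, add_zero]
            exact pbs_comp i' p (In n) y m
          rw [← h2, ← map_comp_apply]
          exact ha
        obtain ⟨c, hc⟩ := (hK n).2.1 y m h1
        obtain ⟨c₂, hc₂⟩ := tmul n (i' y) v'
        refine ⟨pbs p _ (i' y) ((Sx (p (i' y))).map (eqToHom (hstep n).symm) c) + c₂, ?_⟩
        rw [map_add, pbs_map, hc₂]
        congr 2
        exact (htrans n _ c).trans hc
      tmul := tmul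
      reg := fun n x a b h => by
        haveI : Mono (EulerLib.smulMod (In n) t) := mono_of_stalks_injective _ fun x u v huv => by
          rw [map_smulMod, map_smulMod] at huv
          exact regular_of_flat f (hinv n).2.1 hϖ.ne_zero x u v huv
        have hm : Mono (EulerLib.smulMod (M n) t') := by
          rw [← show p.appTop t = t' from ht, ← pullback_map_smulMod']
          infer_instance
        refine stalk_injective (EulerLib.smulMod (M n) t') x ?_
        rw [map_smulMod, map_smulMod, h]
      dec := fun n y => by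
        haveI := hdec n
        have e : biprod.lift (π₁ (n + 1)) (π₁' (n + 1)) = (α (n + 1)).hom ≫ biprod.lift (π (n + 1)) (π' (n + 1)) := by
          apply biprod.hom_ext <;> simp [π₁, π₁']
        rw [e]
        exact stalk_surjective _ y }
  haveI : IsAdicComplete (Ideal.span {ϖ'}) R' :=
    ((IsDiscreteValuationRing.irreducible_iff_uniformizer ϖ').1 hϖ') ▸ ‹IsAdicComplete (IsLocalRing.maximalIdeal R') R'›
  obtain ⟨F, P, hF, hP, hreg, e, he⟩ := T.exists_quotient (fun n => CycLib28.InterSheaf.isCoh_pullback p (hinv n).1)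
    (fun x hx => isUnit_of_notMem_range f' i' hϖ' hsq' x hx) (fun x hx => mem_range_of_closed f' i' hsq' hx)
  exact ⟨F, P, hF, hP, isFlatOver_of_regular f' hϖ' F hreg, e, he⟩

end Groth.Agent.TF7
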